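import Mathlib.CategoryTheory.Abelian.SerreClass.Basic
import Mathlib.Algebra.Homology.Refinements
import Mathlib.Algebra.Homology.QuasiIso
import Mathlib.CategoryTheory.Subobject.Limits
import Mathlib.CategoryTheory.Abelian.Images
import Mathlib.Algebra.Homology.HomologicalComplexAbelian

/-!
# Subcomplexes in a Serre class
-/

set_option autoImplicit false
set_option linter.style.haveILetI false

universe v u

open CategoryTheory CategoryTheory.Limits

namespace Groth.Agent.H16Derived.SubQis

variable {A : Type u} [Category.{v} A] [Abelian A] (P : ObjectProperty A) [P.IsSerreClass]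

theorem prop_biprod {X Y : A} (hX : P X) (hY : P Y) : P (X ⊞ Y) :=
  P.prop_X₂_of_shortExact (ShortComplex.Splitting.ofHasBinaryBiproduct X Y).shortExact hX hY

/-- Epimorphisms onto objects of the class are epi on a subobject in the class. -/
def HasLift : Prop :=
  ∀ (X Y : A) (π : X ⟶ Y), Epi π → P Y → ∃ (X' : A) (i : X' ⟶ X), Mono i ∧ P X' ∧ Epi (i ≫ π)

variable {P} (hlift : HasLift P) (K : CochainComplex A ℤ)

/-- What a step must provide. -/
structure IsStep (i : ℤ) (T : Subobject (K.X (i + 1))) (S : Subobject (K.X i)) : Prop where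
  prop : P (S : A)
  fac : ∃ δ : (S : A) ⟶ (T : A), δ ≫ T.arrow = S.arrow ≫ K.d i (i + 1)
  surj : ∀ ⦃B : A⦄ (z : B ⟶ K.X i), z ≫ K.d i (i + 1) = 0 → ∃ (B' : A) (π : B' ⟶ B) (_ : Epi π)
    (y : B' ⟶ (S : A)) (w : B' ⟶ K.X (i - 1)), y ≫ S.arrow = π ≫ z + w ≫ K.d (i - 1) i
  inj : ∀ ⦃B : A⦄ (t : B ⟶ (T : A)) (x : B ⟶ K.X i), t ≫ T.arrow = x ≫ K.d i (i + 1) →
    ∃ (B' : A) (π : B' ⟶ B) (_ : Epi π) (y : B' ⟶ (S : A)), y ≫ S.arrow ≫ K.d i (i + 1) = π ≫ t ≫ T.arrow

include hlift in
theorem exists_step (hK : ∀ i, P (K.homology i)) (i : ℤ) (T : Subobject (K.X (i + 1))) (hT : P (T : A)) :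
    ∃ S : Subobject (K.X i), IsStep (P := P) K i T S := by
  obtain ⟨A₁, i₁, hm₁, hA₁, he₁⟩ := hlift _ _ (K.homologyπ i) inferInstance (hK i)
  let W := pullback T.arrow (K.d i (i + 1))
  let g : W ⟶ (T : A) := pullback.fst _ _
  let I := Abelian.image g
  have hI : P I := P.prop_of_mono (Abelian.image.ι g) hT
  obtain ⟨A₂, i₂, hm₂, hA₂, he₂⟩ := hlift _ _ (Abelian.factorThruImage g) inferInstance hI
  let a₁ : A₁ ⟶ K.X i := i₁ ≫ K.iCycles i
  let a₂ : A₂ ⟶ K.X i := i₂ ≫ pullback.snd _ _
  let a : A₁ ⊞ A₂ ⟶ K.X i := biprod.desc a₁ a₂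
  haveI : Epi (factorThruImageSubobject a) := inferInstance
  have hfac : (biprod.desc 0 (i₂ ≫ g)) ≫ T.arrow = a ≫ K.d i (i + 1) := by
    apply biprod.hom_ext'
    · simp only [biprod.inl_desc_assoc, zero_comp, a, a₁, Category.assoc, HomologicalComplex.iCycles_d, comp_zero]
    · simp only [biprod.inr_desc_assoc, a, a₂, Category.assoc, g, W, pullback.condition]
  refine ⟨imageSubobject a, ⟨P.prop_of_epi (factorThruImageSubobject a) (prop_biprod P hA₁ hA₂), ?_, ?_, ?_⟩⟩
  · have h : kernel.ι (factorThruImageSubobject a) ≫ biprod.desc 0 (i₂ ≫ g) = 0 := by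
      rw [← cancel_mono T.arrow, Category.assoc, hfac, zero_comp]
      have ha : kernel.ι (factorThruImageSubobject a) ≫ a = 0 :=
        (congrArg (kernel.ι (factorThruImageSubobject a) ≫ ·) (imageSubobject_arrow_comp a).symm).trans
          (by rw [kernel.condition_assoc, zero_comp])
      rw [← Category.assoc, ha, zero_comp]
    let S := ShortComplex.mk (kernel.ι (factorThruImageSubobject a)) (factorThruImageSubobject a) (kernel.condition _)
    have hS : S.Exact := ShortComplex.exact_of_f_is_kernel _ (kernelIsKernel _)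
    haveI : Epi S.g := inferInstanceAs (Epi (factorThruImageSubobject a))
    refine ⟨hS.desc _ h, ?_⟩
    rw [← cancel_epi (factorThruImageSubobject a), ← Category.assoc,
      show factorThruImageSubobject a ≫ hS.desc _ h = _ from hS.g_desc _ h, hfac, ← Category.assoc,
      imageSubobject_arrow_comp]
  · intro B z hz
    let c := K.liftCycles z (i + 1) (by simp) hz
    obtain ⟨B₁, π₁, hπ₁, y, hy⟩ := surjective_up_to_refinements_of_epi (i₁ ≫ K.homologyπ i) (c ≫ K.homologyπ i)
    have h2 : (y ≫ i₁) ≫ K.homologyπ i = (π₁ ≫ c) ≫ K.homologyπ i := by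
      rw [Category.assoc, Category.assoc, hy]
    obtain ⟨B₂, π₂, hπ₂, w, hw⟩ :=
      (K.comp_homologyπ_eq_iff_up_to_refinements (i - 1) i (by simp) _ _).1 h2
    refine ⟨B₂, π₂ ≫ π₁, epi_comp _ _, π₂ ≫ y ≫ biprod.inl ≫ factorThruImageSubobject a, w, ?_⟩
    have hw' := congrArg (· ≫ K.iCycles i) hw
    simp only [Preadditive.add_comp, Category.assoc, HomologicalComplex.toCycles_i, c,
      HomologicalComplex.liftCycles_i] at hw'
    simp only [Category.assoc, imageSubobject_arrow_comp, a, biprod.inl_desc, a₁]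
    exact hw'
  · intro B t x hx
    let l : B ⟶ W := pullback.lift t x hx
    obtain ⟨B', π, hπ, y, hy⟩ :=
      surjective_up_to_refinements_of_epi (i₂ ≫ Abelian.factorThruImage g) (l ≫ Abelian.factorThruImage g)
    refine ⟨B', π, hπ, y ≫ biprod.inr ≫ factorThruImageSubobject a, ?_⟩
    have h2 : y ≫ i₂ ≫ g = π ≫ t := by
      have := congrArg (· ≫ Abelian.image.ι g) hy
      simp only [Category.assoc, Abelian.image.fac] at this
      rw [← this]
      exact congrArg (π ≫ ·) (pullback.lift_fst t x hx)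
    simp only [Category.assoc, imageSubobject_arrow_comp_assoc, a, biprod.inr_desc_assoc, a₂]
    rw [← pullback.condition, ← Category.assoc (π) t, ← h2]
    simp only [Category.assoc, g, W]

variable (hK : ∀ i, P (K.homology i))

open Classical in
/-- The chosen step. -/
noncomputable def step (i : ℤ) (T : Subobject (K.X (i + 1))) : Subobject (K.X i) :=
  if hT : P (T : A) then (exists_step hlift K hK i T hT).choose else ⊥

/-- The subobjects. -/
noncomputable def sub (b : ℤ) (i : ℤ) : Subobject (K.X i) :=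
  if b < i then ⊥ else step hlift K hK i (sub b (i + 1))
  termination_by (b + 1 - i).toNat
  decreasing_by omega

theorem prop_sub (b : ℤ) : ∀ (n : ℕ) (i : ℤ), (b + 1 - i).toNat = n → P (sub hlift K hK b i : A)
  | 0, i, h => by
    rw [sub, if_pos (by omega)]
    exact P.prop_of_iso (Subobject.botCoeIsoZero).symm P.prop_zero
  | n + 1, i, h => by
    rw [sub, if_neg (by omega)]
    have hT := prop_sub b n (i + 1) (by omega)
    rw [step, dif_pos hT]
    exact (exists_step hlift K hK i _ hT).choose_spec.prop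

theorem isStep_sub (b : ℤ) (hb : ∀ i, b < i → IsZero (K.X i)) (i : ℤ) :
    IsStep (P := P) K i (sub hlift K hK b (i + 1)) (sub hlift K hK b i) := by
  have hT := prop_sub hlift K hK b _ (i + 1) rfl
  by_cases hi : b < i
  · have hz : IsZero (K.X i) := hb i hi
    refine ⟨prop_sub hlift K hK b _ i rfl, ⟨0, ?_⟩, fun B z _ => ⟨B, 𝟙 B, inferInstance, 0, 0, ?_⟩,
      fun B t x ht => ⟨B, 𝟙 B, inferInstance, 0, ?_⟩⟩
    · rw [zero_comp, hz.eq_of_tgt (Subobject.arrow _) 0, zero_comp]
    · exact hz.eq_of_tgt _ _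
    · rw [zero_comp, Category.id_comp, ht, hz.eq_of_tgt x 0, zero_comp]
  · have h := (exists_step hlift K hK i _ hT).choose_spec
    have e : sub hlift K hK b i = (exists_step hlift K hK i _ hT).choose := by
      rw [sub, if_neg hi, step, dif_pos hT]
    rw [e]
    exact h

include hlift hK in
/-- A bounded above complex with cohomology in the class has a quasi-isomorphic subcomplex in the class. -/
theorem exists_sub_qis (b : ℤ) (hb : ∀ i, b < i → IsZero (K.X i)) :
    ∃ (L : CochainComplex A ℤ) (φ : L ⟶ K), QuasiIso φ ∧ (∀ i, P (L.X i)) ∧ ∀ i, b < i → IsZero (L.X i) := by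
  let S := sub hlift K hK b
  have hS := isStep_sub hlift K hK b hb
  let dl : ∀ i, (S i : A) ⟶ (S (i + 1) : A) := fun i => (hS i).fac.choose
  have hd : ∀ i, dl i ≫ (S (i + 1)).arrow = (S i).arrow ≫ K.d i (i + 1) := fun i => (hS i).fac.choose_spec
  let L : CochainComplex A ℤ := CochainComplex.of (fun i => (S i : A)) dl fun i => by
    rw [← cancel_mono (S (i + 1 + 1)).arrow, Category.assoc, hd, ← Category.assoc, hd, Category.assoc,
      HomologicalComplex.d_comp_d, comp_zero, zero_comp]
  let φ : L ⟶ K :=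
    { f := fun i => (S i).arrow
      comm' := fun i j hij => by
        obtain rfl : i + 1 = j := hij
        have e : L.d i (i + 1) = dl i := CochainComplex.of_d (fun i => (S i : A)) dl i
        rw [e]
        exact (hd i).symm }
  refine ⟨L, φ, ⟨fun i => ?_⟩, fun i => prop_sub hlift K hK b _ i rfl, fun i hi => ?_⟩
  · rw [quasiIsoAt_iff_isIso_homologyMap]
    haveI : Mono (HomologicalComplex.homologyMap φ i) := by
      obtain ⟨j, rfl⟩ : ∃ j, i = j + 1 := ⟨i - 1, by omega⟩
      refine Preadditive.mono_of_cancel_zero _ fun {B} g hg => ?_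
      obtain ⟨B₁, π₁, hπ₁, z, hz, hzg⟩ := L.eq_liftCycles_homologyπ_up_to_refinements g (j + 1 + 1) (by simp)
      have h2 : (L.liftCycles z (j + 1 + 1) (by simp) hz ≫ HomologicalComplex.cyclesMap φ (j + 1)) ≫
          K.homologyπ (j + 1) = 0 := by
        rw [Category.assoc, ← HomologicalComplex.homologyπ_naturality, ← Category.assoc, ← hzg, Category.assoc,
          hg, comp_zero]
      obtain ⟨B₂, π₂, hπ₂, x, hx⟩ := (K.comp_homologyπ_eq_zero_iff_up_to_refinements j (j + 1) (by simp) _).1 h2
      have hx' : (π₂ ≫ z) ≫ (S (j + 1)).arrow = x ≫ K.d j (j + 1) := by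
        have := congrArg (· ≫ K.iCycles (j + 1)) hx
        simpa [φ] using this
      obtain ⟨B₃, π₃, hπ₃, y, hy⟩ := (hS j).inj (π₂ ≫ z) x hx'
      have hy' : y ≫ L.d j (j + 1) = π₃ ≫ π₂ ≫ z := by
        rw [← cancel_mono (S (j + 1)).arrow, show L.d j (j + 1) = dl j from CochainComplex.of_d (fun i => (S i : A)) dl j]
        refine (Category.assoc _ _ _).trans ?_
        rw [hd]
        exact hy.trans (by simp [Category.assoc, S])
      rw [← cancel_epi π₁, ← cancel_epi π₂, ← cancel_epi π₃, hzg, comp_zero, comp_zero, comp_zero]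
      have h4 : (π₃ ≫ π₂) ≫ L.liftCycles z (j + 1 + 1) (by simp) hz = y ≫ L.toCycles j (j + 1) := by
        rw [← cancel_mono (L.iCycles (j + 1))]
        simp [hy']
      simp only [← Category.assoc] at h4 ⊢
      rw [h4, Category.assoc, HomologicalComplex.toCycles_comp_homologyπ, comp_zero]
    haveI : Epi (HomologicalComplex.homologyMap φ i) := by
      rw [epi_iff_surjective_up_to_refinements]
      intro B g
      obtain ⟨B₁, π₁, hπ₁, z, hz, hzg⟩ := K.eq_liftCycles_homologyπ_up_to_refinements g (i + 1) (by simp)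
      obtain ⟨B₂, π₂, hπ₂, y, w, hy⟩ := (hS i).surj z hz
      have hyd : y ≫ L.d i (i + 1) = 0 := by
        rw [← cancel_mono (S (i + 1)).arrow, show L.d i (i + 1) = dl i from CochainComplex.of_d (fun i => (S i : A)) dl i]
        refine (Category.assoc _ _ _).trans ?_
        rw [hd, ← Category.assoc, hy, Preadditive.add_comp, Category.assoc, hz, Category.assoc,
          HomologicalComplex.d_comp_d, comp_zero, comp_zero, add_zero, zero_comp]
      refine ⟨B₂, π₂ ≫ π₁, epi_comp _ _, L.liftCycles y (i + 1) (by simp) hyd ≫ L.homologyπ i, ?_⟩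
      rw [Category.assoc, hzg, Category.assoc, HomologicalComplex.homologyπ_naturality, ← Category.assoc,
        ← Category.assoc, eq_comm, K.comp_homologyπ_eq_iff_up_to_refinements (i - 1) i (by simp)]
      refine ⟨B₂, 𝟙 _, inferInstance, w, ?_⟩
      rw [← cancel_mono (K.iCycles i)]
      simp [φ]
      exact hy
    exact isIso_of_mono_of_epi _
  · show IsZero (S i : A)
    haveI : Mono (S i).arrow := inferInstance
    exact IsZero.of_mono_eq_zero (S i).arrow ((hb i hi).eq_of_tgt _ _)

end Groth.Agent.H16Derived.SubQis
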