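import Mathlib.Algebra.Homology.DerivedCategory.ExactFunctor
import Mathlib.Algebra.Homology.DerivedCategory.TStructure
import Mathlib.Algebra.Homology.DerivedCategory.Fractions
import Mathlib.CategoryTheory.Abelian.Subcategory
import Groth.Agent.H16Derived.DMinus.SubQis

/-!
# Bounded above derived category of a Serre class
-/

set_option autoImplicit false
set_option linter.style.haveILetI false
set_option backward.isDefEq.respectTransparency false

universe w w' v v' u u'

open CategoryTheory CategoryTheory.Limits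

namespace Groth.Agent.H16Derived.MinusEquiv

variable {A : Type u} [Category.{v} A] [Abelian A] {B : Type u'} [Category.{v'} B] [Abelian B]
  (F : B ⥤ A) [F.Additive]

/-- A complex with terms in the essential image lifts. -/
theorem exists_lift_complex [F.Full] [F.Faithful] (L : CochainComplex A ℤ) (h : ∀ i, F.essImage (L.X i)) :
    ∃ (L' : CochainComplex B ℤ), Nonempty ((F.mapHomologicalComplex _).obj L' ≅ L) := by
  choose X hX using h
  let e : ∀ i, F.obj (X i) ≅ L.X i := fun i => (hX i).some
  let L' : CochainComplex B ℤ :=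
    { X := X
      d := fun i j => F.preimage ((e i).hom ≫ L.d i j ≫ (e j).inv)
      shape := fun i j h => F.map_injective (by rw [F.map_preimage, L.shape i j h]; simp)
      d_comp_d' := fun i j k _ _ => F.map_injective (by simp) }
  exact ⟨L', ⟨HomologicalComplex.Hom.isoOfComponents e fun i j _ => by simp [L']⟩⟩

theorem isStrictlyLE_of_map [F.Faithful] (L : CochainComplex B ℤ) (b : ℤ)
    (h : ∀ i, b < i → IsZero (((F.mapHomologicalComplex (ComplexShape.up ℤ)).obj L).X i)) :
    L.IsStrictlyLE b := by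
  rw [CochainComplex.isStrictlyLE_iff]
  intro i hi
  exact (IsZero.iff_id_eq_zero _).2 (F.map_injective ((h i hi).eq_of_src _ _))

variable (P : ObjectProperty A) [P.IsSerreClass]

theorem prop_homology (K : CochainComplex A ℤ) (h : ∀ i, P (K.X i)) (i : ℤ) : P (K.homology i) :=
  P.prop_of_epi (K.homologyπ i) (P.prop_of_mono (K.iCycles i) (h i))

variable {P} (hlift : SubQis.HasLift P) (hess : ∀ a, P a → F.essImage a)

include hlift hess in
/-- A bounded above complex with cohomology in `P` is quasi-isomorphic to one coming from `B`. -/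
theorem exists_qis_from [F.Full] [F.Faithful] (K : CochainComplex A ℤ) (hK : ∀ i, P (K.homology i))
    (b : ℤ) [K.IsStrictlyLE b] :
    ∃ (L : CochainComplex B ℤ) (φ : (F.mapHomologicalComplex _).obj L ⟶ K),
      QuasiIso φ ∧ L.IsStrictlyLE b := by
  obtain ⟨L, φ, hφ, hP, hb⟩ := SubQis.exists_sub_qis hlift K hK b
    (fun i hi => CochainComplex.isZero_of_isStrictlyLE K b i hi)
  obtain ⟨L', ⟨e⟩⟩ := exists_lift_complex F L (fun i => hess _ (hP i))
  refine ⟨L', e.hom ≫ φ, inferInstance, isStrictlyLE_of_map F L' b fun i hi => ?_⟩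
  exact (hb i hi).of_iso ((HomologicalComplex.eval _ _ i).mapIso e)

variable [HasDerivedCategory.{w} A] [HasDerivedCategory.{w'} B]
  [PreservesFiniteLimits F] [PreservesFiniteColimits F]

open DerivedCategory

include hlift hess in
theorem exists_iso [F.Full] [F.Faithful] (K : DerivedCategory A) (b : ℤ) [K.IsLE b]
    (hK : ∀ n : ℤ, P ((homologyFunctor A n).obj K)) :
    ∃ M : DerivedCategory B, M.IsLE b ∧ Nonempty (F.mapDerivedCategory.obj M ≅ K) := by
  obtain ⟨K₀, hK₀, ⟨e⟩⟩ := K.exists_iso_Q_obj_of_isLE b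
  haveI := hK₀
  obtain ⟨L, φ, hφ, hL⟩ := exists_qis_from F hlift hess K₀
    (fun i => P.prop_of_iso ((homologyFunctor A i).mapIso e ≪≫ (homologyFunctorFactors A i).app K₀) (hK i)) b
  haveI := hL
  haveI : IsIso (Q.map φ) := (isIso_Q_map_iff_quasiIso _ φ).2 hφ
  exact ⟨Q.obj L, inferInstance, ⟨F.mapDerivedCategoryFactors.app L ≪≫ asIso (Q.map φ) ≪≫ e.symm⟩⟩

variable (hP : ∀ x, P (F.obj x))

include hlift hess hP in
theorem eq_zero_of_map [F.Full] [F.Faithful] {X Y : CochainComplex B ℤ} (b : ℤ) [X.IsStrictlyLE b]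
    (g : X ⟶ Y) (h : Q.map ((F.mapHomologicalComplex _).map g) = (0 : _ ⟶ Q.obj ((F.mapHomologicalComplex _).obj Y))) :
    Q.map g = 0 := by
  let G : CochainComplex B ℤ ⥤ CochainComplex A ℤ := F.mapHomologicalComplex (ComplexShape.up ℤ)
  have h1 : Qh.map ((HomotopyCategory.quotient A (ComplexShape.up ℤ)).map (G.map g)) = Qh.map 0 := by
    have := (quotientCompQhIso A).hom.naturality (G.map g)
    rw [h, comp_zero] at this
    rw [Functor.map_zero]
    exact (cancel_mono ((quotientCompQhIso A).hom.app _)).1 (this.trans zero_comp.symm)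
  obtain ⟨Z, s, hs, hsg⟩ := (MorphismProperty.map_eq_iff_precomp Qh
    (HomotopyCategory.quasiIso A (ComplexShape.up ℤ)) _ _).1 h1
  obtain ⟨Z, rfl⟩ : ∃ K : CochainComplex A ℤ, (HomotopyCategory.quotient A (ComplexShape.up ℤ)).obj K = Z :=
    HomotopyCategory.quotient_obj_surjective Z
  obtain ⟨t, rfl⟩ := (HomotopyCategory.quotient _ _).map_surjective s
  rw [HomotopyCategory.quotient_map_mem_quasiIso_iff, HomologicalComplex.mem_quasiIso_iff] at hs
  haveI := hs
  haveI : (G.obj X).IsStrictlyLE b := by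
    rw [CochainComplex.isStrictlyLE_iff]
    exact fun i hi => F.map_isZero (CochainComplex.isZero_of_isStrictlyLE X b i hi)
  have hZ : Z.IsLE b := by
    rw [CochainComplex.isLE_iff]
    intro i hi
    rw [HomologicalComplex.exactAt_iff_isZero_homology]
    exact (((G.obj X).exactAt_of_isLE b i hi).isZero_homology).of_iso (isoOfQuasiIsoAt t i)
  haveI := hZ
  haveI : QuasiIso (Z.ιTruncLE b) := inferInstance
  have hhom : ∀ i, P ((Z.truncLE b).homology i) := fun i =>
    P.prop_of_iso ((isoOfQuasiIsoAt (Z.ιTruncLE b) i ≪≫ isoOfQuasiIsoAt t i).symm)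
      (prop_homology P (G.obj X) (fun j => hP _) i)
  obtain ⟨L, φ, hφ, hL⟩ := exists_qis_from F hlift hess (Z.truncLE b) hhom b
  obtain ⟨u, hu⟩ := G.map_surjective (φ ≫ Z.ιTruncLE b ≫ t)
  haveI := hφ
  haveI : QuasiIso u := by
    rw [← HomologicalComplex.quasiIso_map_iff_of_preservesHomology u F]
    show QuasiIso (G.map u)
    rw [hu]
    infer_instance
  have h2 : (HomotopyCategory.quotient A _).map (G.map (u ≫ g)) =
      (HomotopyCategory.quotient A _).map (G.map (0 : L ⟶ Y)) := by
    rw [G.map_comp, hu, Functor.map_zero, Functor.map_zero]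
    simp only [Category.assoc, Functor.map_comp]
    rw [hsg, comp_zero, comp_zero, comp_zero]
  have h3 : Homotopy (u ≫ g) 0 := F.preimageHomotopy (HomotopyCategory.homotopyOfEq _ _ h2)
  haveI : IsIso (Q.map u) := (isIso_Q_map_iff_quasiIso _ u).2 inferInstance
  rw [← cancel_epi (Q.map u), ← Q.map_comp, comp_zero]
  have h4 := (quotientCompQhIso B).hom.naturality (u ≫ g)
  rw [Functor.comp_map, HomotopyCategory.eq_of_homotopy _ _ h3, Functor.map_zero, Functor.map_zero,
    zero_comp] at h4
  exact (cancel_epi ((quotientCompQhIso B).hom.app L)).1 (h4.symm.trans comp_zero.symm)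

include hlift hess hP in
theorem bijective_map_Q [F.Full] [F.Faithful] (X Y : CochainComplex B ℤ) (b : ℤ) [X.IsStrictlyLE b] :
    Function.Bijective (fun φ : Q.obj X ⟶ Q.obj Y => F.mapDerivedCategory.map φ) := by
  let G : CochainComplex B ℤ ⥤ CochainComplex A ℤ := F.mapHomologicalComplex (ComplexShape.up ℤ)
  let e := fun K => F.mapDerivedCategoryFactors.app K
  constructor
  · intro φ ψ hφψ
    rw [← sub_eq_zero]
    obtain ⟨X', hX', s, hs, g, hg⟩ := right_fac_of_isStrictlyLE (φ - ψ) b
    haveI := hX'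
    haveI := hs
    rw [hg]
    have h0 : F.mapDerivedCategory.map (Q.map g) = 0 := by
      have : F.mapDerivedCategory.map (φ - ψ) = 0 := by
        rw [Functor.map_sub]; exact sub_eq_zero.2 hφψ
      rw [hg, Functor.map_comp] at this
      exact (cancel_epi (F.mapDerivedCategory.map (inv (Q.map s)))).1 (this.trans comp_zero.symm)
    have h1 : Q.map (G.map g) = 0 := by
      have := F.mapDerivedCategoryFactors_hom_naturality g
      rw [h0, zero_comp] at this
      exact (cancel_epi (F.mapDerivedCategoryFactors.hom.app X')).1 (this.symm.trans comp_zero.symm)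
    rw [eq_zero_of_map F hlift hess hP b g h1, comp_zero]
  · intro φ
    haveI : (G.obj X).IsStrictlyLE b := by
      rw [CochainComplex.isStrictlyLE_iff]
      exact fun i hi => F.map_isZero (CochainComplex.isZero_of_isStrictlyLE X b i hi)
    obtain ⟨X', hX', s, hs, g, hg⟩ :=
      right_fac_of_isStrictlyLE ((e X).inv ≫ φ ≫ (e Y).hom) b
    haveI := hX'
    haveI : QuasiIso s := (isIso_Q_map_iff_quasiIso _ s).1 hs
    obtain ⟨L, ψ, hψ, hL⟩ := exists_qis_from F hlift hess X'
      (fun i => P.prop_of_iso (isoOfQuasiIsoAt s i).symm (prop_homology P (G.obj X) (fun j => hP _) i)) b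
    haveI := hψ
    obtain ⟨s', hs'⟩ := G.map_surjective (ψ ≫ s)
    obtain ⟨g', hg'⟩ := G.map_surjective (ψ ≫ g)
    haveI : QuasiIso s' := by
      rw [← HomologicalComplex.quasiIso_map_iff_of_preservesHomology s' F]
      show QuasiIso (G.map s')
      rw [hs']
      infer_instance
    haveI : IsIso (Q.map s') := (isIso_Q_map_iff_quasiIso _ s').2 inferInstance
    refine ⟨inv (Q.map s') ≫ Q.map g', ?_⟩
    show F.mapDerivedCategory.map (inv (Q.map s') ≫ Q.map g') = φ
    rw [Functor.map_comp, Functor.map_inv, IsIso.inv_comp_eq]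
    rw [← cancel_mono (e Y).hom, Category.assoc]
    have e1 := F.mapDerivedCategoryFactors_hom_naturality g'
    have e2 := F.mapDerivedCategoryFactors_hom_naturality s'
    show F.mapDerivedCategory.map (Q.map g') ≫ F.mapDerivedCategoryFactors.hom.app Y = _
    rw [e1]
    have hφ' : φ ≫ (e Y).hom = (e X).hom ≫ inv (Q.map s) ≫ Q.map g := by
      rw [← hg, Iso.hom_inv_id_assoc]
    rw [hφ', show G.map g' = ψ ≫ g from hg', ← Category.assoc _ (e X).hom,
      show F.mapDerivedCategory.map (Q.map s') ≫ (e X).hom = _ from e2, show G.map s' = ψ ≫ s from hs']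
    simp only [Category.assoc, Functor.map_comp, IsIso.hom_inv_id_assoc]

include hlift hess hP in
theorem bijective_map [F.Full] [F.Faithful] (M N : DerivedCategory B) (b : ℤ) [M.IsLE b] :
    Function.Bijective (fun φ : M ⟶ N => F.mapDerivedCategory.map φ) := by
  obtain ⟨X, hX, ⟨eX⟩⟩ := M.exists_iso_Q_obj_of_isLE b
  haveI := hX
  obtain ⟨eY⟩ : Nonempty (N ≅ Q.obj (Q.objPreimage N)) := ⟨(Q.objObjPreimageIso N).symm⟩
  have h := bijective_map_Q F hlift hess hP X (Q.objPreimage N) b
  constructor
  · intro φ ψ hφψ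
    have h1 := h.1 (a₁ := eX.inv ≫ φ ≫ eY.hom) (a₂ := eX.inv ≫ ψ ≫ eY.hom)
      (by simp only [Functor.map_comp]; exact congrArg (fun t => _ ≫ t ≫ _) hφψ)
    exact (cancel_mono eY.hom).1 ((cancel_epi eX.inv).1 h1)
  · intro φ
    obtain ⟨χ, hχ⟩ := h.2 (F.mapDerivedCategory.map eX.inv ≫ φ ≫ F.mapDerivedCategory.map eY.hom)
    refine ⟨eX.hom ≫ χ ≫ eY.inv, ?_⟩
    simp only [Functor.map_comp] at hχ ⊢
    rw [hχ]
    simp [← Functor.map_comp, ← Functor.map_comp_assoc]

theorem isGE_of_map [F.Faithful] (M : DerivedCategory B) (a : ℤ) [(F.mapDerivedCategory.obj M).IsGE a] :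
    M.IsGE a := by
  rw [DerivedCategory.isGE_iff]
  intro i hi
  have e : (homologyFunctor B i).obj M ≅ (Q.objPreimage M).homology i :=
    (homologyFunctor B i).mapIso (Q.objObjPreimageIso M).symm ≪≫ (homologyFunctorFactors B i).app _
  have e' : (homologyFunctor A i).obj (F.mapDerivedCategory.obj M) ≅ F.obj ((Q.objPreimage M).homology i) :=
    (homologyFunctor A i).mapIso (F.mapDerivedCategory.mapIso (Q.objObjPreimageIso M).symm ≪≫
      F.mapDerivedCategoryFactors.app _) ≪≫ (homologyFunctorFactors A i).app _ ≪≫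
      ((Q.objPreimage M).sc i).mapHomologyIso F
  refine IsZero.of_iso ?_ e
  exact (IsZero.iff_id_eq_zero _).2 (F.map_injective
    (((DerivedCategory.isZero_of_isGE _ a i hi).of_iso e'.symm).eq_of_src _ _))

end Groth.Agent.H16Derived.MinusEquiv
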