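import Mathlib.Algebra.Homology.DerivedCategory.ExactFunctor
import Mathlib.Algebra.Homology.DerivedCategory.KInjective
import Mathlib.Algebra.Homology.DerivedCategory.TStructure
import Mathlib.Algebra.Homology.Factorizations.CM5a
import Groth.Agent.H16Derived.DTrunc
import Groth.Agent.H16Derived.DMinus.Equiv

/-!
# Full faithfulness via injectives, bounded essential image
-/

set_option autoImplicit false
set_option linter.style.haveILetI false
set_option backward.isDefEq.respectTransparency false

universe w w' w'' v v' v'' u u' u''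

open CategoryTheory CategoryTheory.Limits DerivedCategory Pretriangulated ZeroObject

namespace Groth.Agent.H16Derived.BoundedEquiv

variable {A : Type u} [Category.{v} A] [Abelian A] [HasDerivedCategory.{w} A]
  {B : Type u'} [Category.{v'} B] [Abelian B] [HasDerivedCategory.{w'} B]
  (F : B ⥤ A) [F.Additive] [PreservesFiniteLimits F] [PreservesFiniteColimits F]

theorem bijective_conj {C : Type*} [Category C] {D : Type*} [Category D] (G : C ⥤ D) {X X' Y Y' : C}
    (e : X ≅ X') (e' : Y ≅ Y') (h : Function.Bijective (fun φ : X' ⟶ Y' => G.map φ)) :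
    Function.Bijective (fun φ : X ⟶ Y => G.map φ) := by
  constructor
  · intro φ ψ hφψ
    have := h.1 (a₁ := e.inv ≫ φ ≫ e'.hom) (a₂ := e.inv ≫ ψ ≫ e'.hom)
      (by simp only [Functor.map_comp]; exact congrArg (fun t => _ ≫ t ≫ _) hφψ)
    exact (cancel_mono e'.hom).1 ((cancel_epi e.inv).1 this)
  · intro φ
    obtain ⟨χ, hχ⟩ := h.2 (G.map e.inv ≫ φ ≫ G.map e'.hom)
    refine ⟨e.hom ≫ χ ≫ e'.inv, ?_⟩
    simp only [Functor.map_comp] at hχ ⊢
    rw [hχ]
    simp [← Functor.map_comp, ← Functor.map_comp_assoc]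

/-- Morphisms into a K-injective complex whose image is K-injective. -/
theorem bijective_of_isKInjective [F.Full] [F.Faithful] (K J : CochainComplex B ℤ) [J.IsKInjective]
    (hJ : CochainComplex.IsKInjective ((F.mapHomologicalComplex (ComplexShape.up ℤ)).obj J)) :
    Function.Bijective (fun φ : Q.obj K ⟶ Q.obj J => F.mapDerivedCategory.map φ) := by
  refine bijective_conj _ ((quotientCompQhIso B).symm.app K) ((quotientCompQhIso B).symm.app J) ?_
  show Function.Bijective (fun φ : Qh.obj ((HomotopyCategory.quotient B _).obj K) ⟶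
    Qh.obj ((HomotopyCategory.quotient B _).obj J) => F.mapDerivedCategory.map φ)
  rw [← (CochainComplex.IsKInjective.Qh_map_bijective
    ((HomotopyCategory.quotient B (ComplexShape.up ℤ)).obj K) J).of_comp_iff]
  haveI := hJ
  let e := fun X => F.mapDerivedCategoryFactorsh.app X
  have h2 := (CochainComplex.IsKInjective.Qh_map_bijective
    ((F.mapHomotopyCategory (ComplexShape.up ℤ)).obj ((HomotopyCategory.quotient B _).obj K))
    ((F.mapHomologicalComplex (ComplexShape.up ℤ)).obj J)).comp
      ((Functor.FullyFaithful.ofFullyFaithful (F.mapHomotopyCategory (ComplexShape.up ℤ))).map_bijective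
        ((HomotopyCategory.quotient B (ComplexShape.up ℤ)).obj K) ((HomotopyCategory.quotient B _).obj J))
  have h3 := ((e ((HomotopyCategory.quotient B _).obj K)).symm.homCongr
    (e ((HomotopyCategory.quotient B _).obj J)).symm).bijective.comp h2
  refine Eq.mp (congrArg Function.Bijective (funext fun g => ?_)) h3
  show (e _).symm.inv ≫ Qh.map ((F.mapHomotopyCategory _).map g) ≫ (e _).symm.hom = F.mapDerivedCategory.map (Qh.map g)
  exact ((Category.assoc _ _ _).symm.trans
    ((Iso.comp_inv_eq (e _)).2 (F.mapDerivedCategoryFactorsh.hom.naturality g).symm))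

/-- Bounded below target, for a functor preserving injectives. -/
theorem bijective_of_isGE [F.Full] [F.Faithful] [EnoughInjectives B]
    (hinj : ∀ J : B, Injective J → Injective (F.obj J)) (M N : DerivedCategory B) (a : ℤ) [N.IsGE a] :
    Function.Bijective (fun φ : M ⟶ N => F.mapDerivedCategory.map φ) := by
  obtain ⟨L, hL, ⟨e⟩⟩ := N.exists_iso_Q_obj_of_isGE a
  haveI := hL
  obtain ⟨J, i, hi, hJ, hg⟩ :=
    CochainComplex.Plus.modelCategoryQuillen.exists_quasiIso_injective L a
  haveI := hi
  haveI := hJ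
  haveI := hg
  haveI : CochainComplex.IsKInjective J := CochainComplex.isKInjective_of_injective J a
  haveI : IsIso (Q.map i) := (isIso_Q_map_iff_quasiIso _ i).2 hi
  haveI : ∀ n, Injective (((F.mapHomologicalComplex (ComplexShape.up ℤ)).obj J).X n) :=
    fun n => hinj _ (hJ n)
  haveI : CochainComplex.IsStrictlyGE ((F.mapHomologicalComplex (ComplexShape.up ℤ)).obj J) a := by
    rw [CochainComplex.isStrictlyGE_iff]
    exact fun n hn => F.map_isZero (CochainComplex.isZero_of_isStrictlyGE J a n hn)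
  exact bijective_conj _ (Q.objObjPreimageIso M).symm (e ≪≫ asIso (Q.map i))
    (bijective_of_isKInjective F _ J (CochainComplex.isKInjective_of_injective _ a))

theorem isLE_of_map [F.Faithful] (M : DerivedCategory B) (b : ℤ) [(F.mapDerivedCategory.obj M).IsLE b] :
    M.IsLE b := by
  rw [DerivedCategory.isLE_iff]
  intro i hi
  have e : (homologyFunctor B i).obj M ≅ (Q.objPreimage M).homology i :=
    (homologyFunctor B i).mapIso (Q.objObjPreimageIso M).symm ≪≫ (homologyFunctorFactors B i).app _
  have e' : (homologyFunctor A i).obj (F.mapDerivedCategory.obj M) ≅ F.obj ((Q.objPreimage M).homology i) :=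
    (homologyFunctor A i).mapIso (F.mapDerivedCategory.mapIso (Q.objObjPreimageIso M).symm ≪≫
      F.mapDerivedCategoryFactors.app _) ≪≫ (homologyFunctorFactors A i).app _ ≪≫
      ((Q.objPreimage M).sc i).mapHomologyIso F
  refine IsZero.of_iso ?_ e
  exact (IsZero.iff_id_eq_zero _).2 (F.map_injective
    (((DerivedCategory.isZero_of_isLE _ b i hi).of_iso e'.symm).eq_of_src _ _))

/-- Fully faithful on bounded objects gives the bounded essential image. -/
theorem exists_iso_bounded [F.Faithful]
    (hfull : ∀ (M N : DerivedCategory B) (a b : ℤ), M.IsGE a → M.IsLE b → N.IsGE a → N.IsLE b →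
      Function.Surjective (fun φ : M ⟶ N => F.mapDerivedCategory.map φ))
    (K : DerivedCategory A) (a b : ℤ) (hGE : K.IsGE a) (hLE : K.IsLE b)
    (hK : ∀ n : ℤ, F.essImage ((homologyFunctor A n).obj K)) :
    ∃ M : DerivedCategory B, M.IsGE a ∧ M.IsLE b ∧ Nonempty (F.mapDerivedCategory.obj M ≅ K) := by
  suffices h : ∀ (n : ℕ) (K : DerivedCategory A) (a b : ℤ), K.IsGE a → K.IsLE b → (b + 1 - a).toNat ≤ n →
      (∀ i, F.essImage ((homologyFunctor A i).obj K)) → ∃ M, Nonempty (F.mapDerivedCategory.obj M ≅ K) by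
    obtain ⟨M, ⟨e⟩⟩ := h _ K a b hGE hLE le_rfl hK
    haveI : (F.mapDerivedCategory.obj M).IsGE a := TStructure.t.isGE_of_iso e.symm a
    haveI : (F.mapDerivedCategory.obj M).IsLE b := TStructure.t.isLE_of_iso e.symm b
    exact ⟨M, MinusEquiv.isGE_of_map F M a, isLE_of_map F M b, ⟨e⟩⟩
  intro n
  induction n with
  | zero =>
    intro K a b hGE hLE hn _
    exact ⟨0, ⟨(F.mapDerivedCategory.map_isZero (isZero_zero _)).iso
      (TStructure.t.isZero K b a (by omega))⟩⟩
  | succ n ih =>
    intro K a b hGE hLE hn hK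
    haveI := hGE
    haveI := hLE
    rcases lt_trichotomy b a with h | h | h
    · exact ⟨0, ⟨(F.mapDerivedCategory.map_isZero (isZero_zero _)).iso (TStructure.t.isZero K b a h)⟩⟩
    · subst h
      obtain ⟨H, ⟨e⟩⟩ := DerivedCategory.exists_iso_singleFunctor_obj_of_isGE_of_isLE K b
      obtain ⟨x, ⟨ex⟩⟩ := hK b
      exact ⟨(singleFunctor B b).obj x, ⟨(F.mapDerivedCategorySingleFunctor b).app x ≪≫
        (singleFunctor A b).mapIso (ex ≪≫ (homologyFunctor A b).mapIso e ≪≫
          (homologyFunctor A b).mapIso ((singleFunctorIsoCompQ A b).app H) ≪≫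
          (homologyFunctorFactors A b).app _ ≪≫
          (HomologicalComplex.homologyFunctorSingleIso A (ComplexShape.up ℤ) b).app H) ≪≫ e.symm⟩⟩
    · let K₁ := (TStructure.t.truncLT b).obj K
      let K₂ := (TStructure.t.truncGE b).obj K
      haveI : K₁.IsLE (b - 1) := TStructure.t.isLE_truncLT_obj ..
      haveI : K₁.IsGE a := DTrunc.isGE_truncLT K b a
      haveI : K₂.IsGE b := inferInstance
      haveI : K₂.IsLE b := DTrunc.isLE_truncGE K b b
      have h₁ : ∀ i, F.essImage ((homologyFunctor A i).obj K₁) := by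
        intro i
        by_cases hi : i < b
        · haveI := DTrunc.isIso_homology_truncLTι K b i hi
          exact Functor.essImage.ofIso (asIso ((homologyFunctor A i).map ((TStructure.t.truncLTι b).app K))).symm (hK i)
        · exact ⟨0, ⟨(F.map_isZero (isZero_zero B)).iso (DerivedCategory.isZero_of_isLE K₁ (b - 1) i (by omega))⟩⟩
      have h₂ : ∀ i, F.essImage ((homologyFunctor A i).obj K₂) := by
        intro i
        by_cases hi : b ≤ i
        · haveI := DTrunc.isIso_homology_truncGEπ K b i hi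
          exact Functor.essImage.ofIso (asIso ((homologyFunctor A i).map ((TStructure.t.truncGEπ b).app K))) (hK i)
        · exact ⟨0, ⟨(F.map_isZero (isZero_zero B)).iso (DerivedCategory.isZero_of_isGE K₂ b i (by omega))⟩⟩
      obtain ⟨M₁, ⟨e₁⟩⟩ := ih K₁ a (b - 1) inferInstance inferInstance (by omega) h₁
      obtain ⟨M₂, ⟨e₂⟩⟩ := ih K₂ b b inferInstance inferInstance (by omega) h₂
      haveI : (F.mapDerivedCategory.obj M₁).IsLE (b - 1) := TStructure.t.isLE_of_iso e₁.symm _
      haveI : (F.mapDerivedCategory.obj M₁).IsGE a := TStructure.t.isGE_of_iso e₁.symm _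
      haveI : (F.mapDerivedCategory.obj M₂).IsLE b := TStructure.t.isLE_of_iso e₂.symm _
      haveI : (F.mapDerivedCategory.obj M₂).IsGE b := TStructure.t.isGE_of_iso e₂.symm _
      haveI := isLE_of_map F M₁ (b - 1)
      haveI := isLE_of_map F M₂ b
      haveI := MinusEquiv.isGE_of_map F M₁ a
      haveI := MinusEquiv.isGE_of_map F M₂ b
      haveI : (M₁⟦(1 : ℤ)⟧).IsGE (a - 1) := TStructure.t.isGE_shift M₁ a 1 (a - 1)
      haveI : (M₁⟦(1 : ℤ)⟧).IsLE (b - 2) := TStructure.t.isLE_shift M₁ (b - 1) 1 (b - 2)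
      let T := ((TStructure.t.triangleLTGE b).obj K).rotate.rotate
      have hT : T ∈ distTriang _ :=
        rot_of_distTriang _ (rot_of_distTriang _ (TStructure.t.triangleLTGE_distinguished b K))
      let u₁ : F.mapDerivedCategory.obj (M₁⟦(1 : ℤ)⟧) ≅ K₁⟦(1 : ℤ)⟧ :=
        (F.mapDerivedCategory.commShiftIso (1 : ℤ)).app M₁ ≪≫ (shiftFunctor _ (1 : ℤ)).mapIso e₁
      obtain ⟨f, hf⟩ := hfull M₂ (M₁⟦(1 : ℤ)⟧) (a - 1) b
        (TStructure.t.isGE_of_ge M₂ (a - 1) b) inferInstance inferInstance
        (TStructure.t.isLE_of_le _ (b - 2) b) (e₂.hom ≫ T.mor₁ ≫ u₁.inv)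
      obtain ⟨C, g, h', hC⟩ := distinguished_cocone_triangle f
      let S := F.mapDerivedCategory.mapTriangle.obj (Triangle.mk f g h')
      have hS : S ∈ distTriang _ := F.mapDerivedCategory.map_distinguished _ hC
      have hcomm : S.mor₁ ≫ u₁.hom = e₂.hom ≫ T.mor₁ := by
        show F.mapDerivedCategory.map f ≫ u₁.hom = _
        rw [show F.mapDerivedCategory.map f = e₂.hom ≫ T.mor₁ ≫ u₁.inv from hf]
        simp
      let e₃ := Triangle.π₃.mapIso (isoTriangleOfIso₁₂ S T hS hT e₂ u₁ hcomm)
      refine ⟨C⟦(-1 : ℤ)⟧, ⟨(F.mapDerivedCategory.commShiftIso (-1 : ℤ)).app C ≪≫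
        (shiftFunctor _ (-1 : ℤ)).mapIso e₃ ≪≫ (shiftFunctorCompIsoId _ (1 : ℤ) (-1) (by omega)).app K⟩⟩

variable {E : Type u''} [Category.{v''} E] [Abelian E] [HasDerivedCategory.{w''} E]
  (G : E ⥤ B) [G.Additive] [PreservesFiniteLimits G] [PreservesFiniteColimits G]
  {H : E ⥤ A} [H.Additive] [PreservesFiniteLimits H] [PreservesFiniteColimits H]

/-- `mapDerivedCategory` of a composite. -/
theorem nonempty_mapDerivedCategory_comp (e : G ⋙ F ≅ H) :
    Nonempty (G.mapDerivedCategory ⋙ F.mapDerivedCategory ≅ H.mapDerivedCategory) := by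
  letI : Localization.Lifting DerivedCategory.Q (HomologicalComplex.quasiIso E (ComplexShape.up ℤ))
      (G.mapHomologicalComplex _ ⋙ F.mapHomologicalComplex _ ⋙ DerivedCategory.Q)
      (G.mapDerivedCategory ⋙ F.mapDerivedCategory) :=
    ⟨(Functor.associator _ _ _).symm ≪≫ Functor.isoWhiskerRight G.mapDerivedCategoryFactors _ ≪≫
      Functor.associator _ _ _ ≪≫ Functor.isoWhiskerLeft _ F.mapDerivedCategoryFactors⟩
  exact ⟨Localization.liftNatIso DerivedCategory.Q (HomologicalComplex.quasiIso E (ComplexShape.up ℤ))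
    (G.mapHomologicalComplex _ ⋙ F.mapHomologicalComplex _ ⋙ DerivedCategory.Q)
    (H.mapHomologicalComplex _ ⋙ DerivedCategory.Q) _ _
    ((Functor.associator _ _ _).symm ≪≫
      Functor.isoWhiskerRight (Functor.mapHomologicalComplexCompIso e _) _)⟩

end Groth.Agent.H16Derived.BoundedEquiv
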