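import Mathlib.CategoryTheory.Abelian.SerreClass.Basic
import Groth.Prelude.Def_DCoh2
import Groth.Agent.H17.CohSub
import Groth.Agent.H10Coh.FinType2
import Groth.Agent.H10Coh.GenHom
import Groth.Agent.H27KZero.Coherent
import Groth.Agent.LeadDev.Basic
import Groth.Agent.H16Derived.DMinus.SubQis

/-!
# Coherent modules inside the quasi-coherent ones
-/

set_option autoImplicit false
set_option linter.style.haveILetI false
set_option backward.isDefEq.respectTransparency false

universe u

open CategoryTheory CategoryTheory.Limits AlgebraicGeometry ZeroObject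

namespace Groth.Agent.H16Derived.CohQCoh

variable {X : Scheme.{u}}

/-- Quasi-coherent modules, as a property. -/
abbrev q (X : Scheme.{u}) : ObjectProperty X.Modules := fun M => Coh.IsQCoh M

/-- Coherence on the quasi-coherent modules. -/
abbrev cohIn (X : Scheme.{u}) : ObjectProperty (q X).FullSubcategory := fun M => Coh.IsCoh M.obj

/-- A finite family of sections is hit from a coherent module. -/
theorem exists_coh_map [IsNoetherian X] (G : X.Modules) (hG : Coh.IsQCoh G) (T : Finset X.affineOpens)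
    (S : ∀ V : X.affineOpens, Finset Γ(G, V.1)) :
    ∃ (H : X.Modules) (k : H ⟶ G), Coh.IsCoh H ∧ ∀ V ∈ T, ∀ s ∈ S V, ∃ a, k.app V.1 a = s := by
  classical
  induction T using Finset.induction_on with
  | empty =>
    obtain ⟨O, hO⟩ := HasZeroObject.zero (C := X.Modules)
    exact ⟨O, 0, LeadDev.isCoh_of_isZero hO, fun V hV => absurd hV (Finset.notMem_empty V)⟩
  | @insert V T hVT ih =>
    obtain ⟨H, k, hH, hk⟩ := ih
    obtain ⟨H', k', -, hH', hk'⟩ := H17.CohSub.exists_coh_sub G hG V.2 (S V)
    refine ⟨H ⊞ H', biprod.desc k k', LeadDev.isCoh_biprod hH hH', fun W hW s hs => ?_⟩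
    rcases Finset.mem_insert.1 hW with rfl | hW
    · obtain ⟨a, ha⟩ := hk' s hs
      refine ⟨(biprod.inr : H' ⟶ H ⊞ H').app W.1 a, ?_⟩
      exact (congr($((biprod.inr_desc k k' : _ = k')) |>.app W.1 a)).trans ha
    · obtain ⟨a, ha⟩ := hk W hW s hs
      refine ⟨(biprod.inl : H ⟶ H ⊞ H').app W.1 a, ?_⟩
      exact (congr($((biprod.inl_desc k k' : _ = k)) |>.app W.1 a)).trans ha

/-- An epimorphism onto a coherent module is epi on a coherent submodule. -/
theorem exists_coh_sub_epi [IsNoetherian X] {G Y : X.Modules} (hG : Coh.IsQCoh G) (hY : Coh.IsCoh Y)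
    (π : G ⟶ Y) [Epi π] :
    ∃ (H : X.Modules) (k : H ⟶ G), Mono k ∧ Coh.IsCoh H ∧ Epi (k ≫ π) := by
  classical
  obtain ⟨T, hT, htop⟩ :=
    (isCompact_and_isOpen_iff_finite_and_eq_biUnion_affineOpens (U := (Set.univ : Set X))).mp
      ⟨isCompact_univ, isOpen_univ⟩
  haveI : G.IsQuasicoherent := hG
  haveI : Y.IsQuasicoherent := hY.1
  have hgen : ∀ V : X.affineOpens, ∃ S : Finset Γ(G, V.1),
      Submodule.span Γ(X, V.1) (π.app V.1 '' (S : Set Γ(G, V.1))) = ⊤ := fun V => by
    haveI := ((H10Coh.isCoh_iff_finite_sections Y).1 hY).2 V.1 V.2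
    obtain ⟨S', hS'⟩ := (Module.Finite.fg_top : (⊤ : Submodule Γ(X, V.1) Γ(Y, V.1)).FG)
    choose g hg using fun y => H10Coh.surjective_app_of_epi π V.2 y
    refine ⟨S'.image g, ?_⟩
    rw [Finset.coe_image, ← Set.image_comp, show π.app V.1 ∘ g = id from funext hg, Set.image_id, hS']
  choose S hS using hgen
  obtain ⟨H, k, hH, hk⟩ := exists_coh_map G hG hT.toFinset S
  haveI : Epi (k ≫ π) := by
    refine H10Coh.epi_of_surjective_on_cover _ hY.1 (fun V : T => V.1.1) (fun V => V.1.2) (fun x => ?_) ?_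
    · obtain ⟨V, hV, hxV⟩ := Set.mem_iUnion₂.1 (htop.le (Set.mem_univ x))
      exact ⟨⟨V, hV⟩, hxV⟩
    · intro V
      refine ⟨_, hS V.1, ?_⟩
      rintro σ ⟨s, hs, rfl⟩
      obtain ⟨a, rfl⟩ := hk V.1 (hT.mem_toFinset.2 V.2) s hs
      exact ⟨a, rfl⟩
  haveI : H.IsQuasicoherent := hH.1
  have hker : Coh.IsQCoh (kernel k) := @H10Coh.isQuasicoherent_kernel _ _ _ k hH.1 hG
  have hco : Coh.IsCoh (Abelian.coimage k) := H10Coh.isCoh_cokernel (kernel.ι k) hker hH
  refine ⟨Abelian.image k, Abelian.image.ι k, inferInstance,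
    H10Coh.isCoh_of_iso (Abelian.coimageIsoImage k) hco, ?_⟩
  have : k ≫ π = Abelian.factorThruImage k ≫ Abelian.image.ι k ≫ π := by rw [← Category.assoc, Abelian.image.fac]
  exact epi_of_epi_fac this.symm

variable [(q X).ContainsZero] [(q X).IsClosedUnderKernels] [(q X).IsClosedUnderCokernels]
  [(q X).IsClosedUnderFiniteProducts]

theorem epi_map {M N : (q X).FullSubcategory} (f : M ⟶ N) [Epi f] : Epi f.hom :=
  haveI := (q X).preservesEpimorphisms_ι_of_isNormalMonoCategory
  inferInstanceAs (Epi ((q X).ι.map f))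

theorem mono_map {M N : (q X).FullSubcategory} (f : M ⟶ N) [Mono f] : Mono f.hom :=
  haveI := (q X).preservesMonomorphisms_ι_of_isNormalEpiCategory
  inferInstanceAs (Mono ((q X).ι.map f))

theorem isSerreClass [IsNoetherian X] : (cohIn X).IsSerreClass := by
  haveI : (cohIn X).ContainsZero := by
    refine ⟨⟨0, isZero_zero _, LeadDev.isCoh_of_isZero ?_⟩⟩
    exact (q X).ι.map_isZero (isZero_zero _)
  haveI : (cohIn X).IsClosedUnderSubobjects :=
    ⟨fun {M N} f _ hN => haveI := mono_map f; H10Coh.isCoh_of_mono f.hom M.property hN⟩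
  haveI : (cohIn X).IsClosedUnderQuotients :=
    ⟨fun {M N} f _ hM => by
      haveI := epi_map f
      haveI : (M.obj).IsQuasicoherent := M.property
      haveI : (N.obj).IsQuasicoherent := N.property
      refine (H10Coh.isCoh_iff_finite_sections _).2 ⟨N.property, fun U hU => ?_⟩
      haveI := ((H10Coh.isCoh_iff_finite_sections _).1 hM).2 U hU
      exact H10Coh.finite_of_semilinear (RingHom.id _) (f.hom.app U).hom (fun a m => f.hom.app_smul a m)
        (H10Coh.surjective_app_of_epi f.hom hU)⟩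
  haveI : (cohIn X).IsClosedUnderExtensions :=
    ⟨fun {S} hS h₁ h₃ => by
      haveI := (q X).preservesKernels_ι
      haveI := (q X).preservesCokernels_ι
      haveI := (q X).preservesMonomorphisms_ι_of_isNormalEpiCategory
      haveI := (q X).preservesEpimorphisms_ι_of_isNormalMonoCategory
      haveI : PreservesFiniteLimits (q X).ι := Functor.preservesFiniteLimits_of_preservesKernels _
      haveI : PreservesFiniteColimits (q X).ι := Functor.preservesFiniteColimits_of_preservesCokernels _
      exact H27KZero.isCoh_extension (hS.map_of_exact (q X).ι) h₁ h₃⟩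
  exact {}

theorem hasLift [IsNoetherian X] : SubQis.HasLift (cohIn X) := by
  intro G Y π hπ hY
  haveI := hπ
  haveI := epi_map π
  obtain ⟨H, k, hk, hH, he⟩ := exists_coh_sub_epi G.property hY π.hom
  haveI := hk
  haveI := he
  haveI : Mono (ObjectProperty.homMk (P := q X) (X := ⟨H, hH.1⟩) (Y := G) k) :=
    (q X).ι.mono_of_mono_map (show Mono k from hk)
  exact ⟨⟨H, hH.1⟩, ObjectProperty.homMk k, inferInstance, hH,
    (q X).ι.epi_of_epi_map (show Epi (k ≫ π.hom) from he)⟩

end Groth.Agent.H16Derived.CohQCoh
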